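import Cfsg.Agent.H661.SC.Base
import Cfsg.Agent.S0953
import Cfsg.Agent.H7.NBp
import Cfsg.Agent.H526.OneBlock
import Cfsg.Agent.H477.HC.Rows

/-!
# `IMC` from a non-principal block (S4526, helper661)

* `imc_of_nonprincipal`, `imc_of_NB` (`p` odd, rows of S5003), `imc_of_NB2` (`p = 2`, rows of S5004): `C_G(P)` is a
  `p`-group for a Sylow `p`-subgroup `P`, and `G` has a non-principal `p`-block;
* `noCent_of_elements` : the condition on `C_G(P)` from centralizer orders of elements of prime order;
* `imc_of_NN_one` : `G` has a conjugacy class `x` with `p ∣ |x^G|` and non-vanishing central character;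
* `imc_char` : the groups of Lie type in the defining characteristic.
-/

set_option autoImplicit false

open Cfsg

namespace Cfsg.Agent.H661.SC

open Cfsg.Agent.Characters.Core Cfsg.Agent.Blocks Cfsg.Agent.H625.SylConst

universe u

variable {G : Type u} [Group G] [Finite G] {p : ℕ} [hp : Fact p.Prime] {M : Ideal AlgInt}

/-- No nontrivial element of order prime to `p` centralizes a Sylow `p`-subgroup. -/
def NoCent (p : ℕ) (G : Type*) [Group G] : Prop :=
  ∀ g : G, ¬ p ∣ orderOf g → (Nat.card G).factorization p ≤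
    (Nat.card (Subgroup.centralizer ({g} : Set G))).factorization p → g = 1

theorem imc_of_nonprincipal (hM : IsPModular p M) (hC : NoCent p G) {χ₀ : IrrCharacter G}
    (h : χ₀ ∉ principalBlock M G) : IMC p G := by
  classical
  have := Local.isPrime_of_isPModular hM
  obtain ⟨P⟩ : Nonempty (Sylow p G) := inferInstance
  set B : Set (IrrCharacter G) := blockOf M (χ₀ : G → ℂ) with hBdef
  have hB : IsPBlock M B := ⟨χ₀, rfl⟩
  have hχB : χ₀ ∈ B := fun g => by rw [sub_self]; exact Blocks.LocalRing.memLocalIdeal_zero hM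
  by_cases hall : ∀ ψ ∈ B, p ∣ charDegree (ψ : G → ℂ)
  · exact imc_of_block hM hB hall
  push Not at hall
  obtain ⟨ψ, hψ, hψd⟩ := hall
  exfalso
  have h1 := S0953.isDefectGroup_of_degree hM P hB hψ hψd
  have hB0 : IsPBlock M (principalBlock M G) := ⟨H7.NBp.triv G, rfl⟩
  have hmem : H7.NBp.triv G ∈ principalBlock M G := fun g => by
    change MemLocalIdeal M (_ - _)
    rw [show centralChar (fun _ : G => (1 : ℂ)) g - centralChar ((H7.NBp.triv G : IrrCharacter G) : G → ℂ) g = 0 from
      sub_self _]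
    exact Blocks.LocalRing.memLocalIdeal_zero hM
  have h2 := S0953.isDefectGroup_of_degree hM P hB0 hmem (by
    have e : charDegree ((H7.NBp.triv G : IrrCharacter G) : G → ℂ) = 1 :=
      H670.PSing.charDegree_eq_of (by change (1 : ℂ) = ((1 : ℕ) : ℂ); rw [Nat.cast_one])
    rw [e]
    exact hp.out.one_lt.not_ge ∘ Nat.le_of_dvd one_pos)
  have hcard := S0953.result p M hM P
  have hsub : Subsingleton {C : ConjClasses (Subgroup.normalizer ((P : Subgroup G) : Set G)) //
      ∀ n : Subgroup.normalizer ((P : Subgroup G) : Set G), ConjClasses.mk n = C →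
        ¬ p ∣ orderOf n ∧ (n : G) ∈ Subgroup.centralizer ((P : Subgroup G) : Set G)} := by
    have key : ∀ C : {C : ConjClasses (Subgroup.normalizer ((P : Subgroup G) : Set G)) //
      ∀ n : Subgroup.normalizer ((P : Subgroup G) : Set G), ConjClasses.mk n = C →
        ¬ p ∣ orderOf n ∧ (n : G) ∈ Subgroup.centralizer ((P : Subgroup G) : Set G)}, C.1 = ConjClasses.mk 1 := by
      rintro ⟨C, hC'⟩
      obtain ⟨n, rfl⟩ := ConjClasses.mk_surjective C
      obtain ⟨h3, h4⟩ := hC' n rfl
      have h5 : (n : G) = 1 := by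
        refine hC n (by rwa [Subgroup.orderOf_coe]) ?_
        have h6 : (P : Subgroup G) ≤ Subgroup.centralizer ({(n : G)} : Set G) := by
          intro x hx
          rw [Subgroup.mem_centralizer_singleton_iff]
          exact (Subgroup.mem_centralizer_iff.1 h4 x hx)
        have h7 := Subgroup.card_dvd_of_le h6
        rw [P.card_eq_multiplicity] at h7
        exact (hp.out.pow_dvd_iff_le_factorization Nat.card_pos.ne').1 h7
      have h8 : n = 1 := Subtype.ext h5
      exact congrArg ConjClasses.mk h8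
    exact ⟨fun a b => Subtype.ext ((key a).trans (key b).symm)⟩
  have hle : Nat.card {B : Set (IrrCharacter G) // IsPBlock M B ∧ IsDefectGroup p M B (P : Subgroup G)} ≤ 1 := by
    rw [hcard]
    exact Finite.card_le_one_iff_subsingleton.2 hsub
  have : Finite (IrrCharacter G) := finite_irr
  have hfin : Finite {B : Set (IrrCharacter G) // IsPBlock M B ∧ IsDefectGroup p M B (P : Subgroup G)} :=
    inferInstance
  have hs := Finite.card_le_one_iff_subsingleton.1 hle
  have e := congrArg Subtype.val (hs.elim ⟨B, hB, h1⟩ ⟨principalBlock M G, hB0, h2⟩)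
  change B = principalBlock M G at e
  rw [e] at hχB
  exact h hχB

theorem imc_of_NB (h : H7.NBp.NB p G) (hC : NoCent p G) : IMC p G := by
  obtain ⟨M, hM⟩ := Cfsg.Agent.Blocks.Knorr.exists_isPModular p
  obtain ⟨χ, hχ⟩ := h M hM
  exact imc_of_nonprincipal hM hC hχ

theorem imc_of_NB2 (h : H526.OB.NB G) (hC : NoCent 2 G) : IMC 2 G := by
  have : Fact (Nat.Prime 2) := ⟨Nat.prime_two⟩
  obtain ⟨M, hM⟩ := Cfsg.Agent.Blocks.Knorr.exists_isPModular 2
  obtain ⟨χ, hχ⟩ := h M hM
  exact imc_of_nonprincipal hM hC hχ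

omit hp in
/-- It is enough to consider the elements of prime order. -/
theorem noCent_of_elements [Fact p.Prime] (h : ∀ (ℓ : ℕ) (u : G), ℓ.Prime → ℓ ≠ p → orderOf u = ℓ →
    ¬ (Nat.card G).factorization p ≤ (Nat.card (Subgroup.centralizer ({u} : Set G))).factorization p) :
    NoCent p G := by
  intro g hg hle
  by_contra hne
  have h1 : orderOf g ≠ 1 := fun h => hne (orderOf_eq_one_iff.1 h)
  obtain ⟨ℓ, hℓ, hℓd⟩ := Nat.exists_prime_and_dvd h1
  have hg0 : 0 < orderOf g := orderOf_pos g
  have h2 : orderOf (g ^ (orderOf g / ℓ)) = ℓ := by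
    rw [orderOf_pow, Nat.gcd_eq_right (Nat.div_dvd_of_dvd hℓd), Nat.div_div_self hℓd hg0.ne']
  refine h ℓ (g ^ (orderOf g / ℓ)) hℓ (fun h3 => hg (h3 ▸ hℓd)) h2 (hle.trans ?_)
  have h3 : Subgroup.centralizer ({g} : Set G) ≤ Subgroup.centralizer ({g ^ (orderOf g / ℓ)} : Set G) := by
    intro x hx
    rw [Subgroup.mem_centralizer_singleton_iff] at hx ⊢
    exact (Commute.pow_right (show Commute x g from hx) _)
  exact (Nat.factorization_le_iff_dvd Nat.card_pos.ne' Nat.card_pos.ne').2 (Subgroup.card_dvd_of_le h3) p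

/-- the defining characteristic: the Steinberg character -/
theorem imc_char [IsSimpleGroup G] (h : IsLieTypeChar p G) (hd : p ∣ Nat.card G) : IMC p G := by
  obtain ⟨χ, hχ, h1, -⟩ := Cfsg.Agent.H167.StChar.hasSt_of_lie hp.1 h
  refine IMC.of_defect_zero hd ⟨χ, hχ⟩ ?_
  have h2 : charDegree χ = p ^ (Nat.card G).factorization p := H670.PSing.charDegree_eq_of h1
  change _ ∣ charDegree χ
  rw [h2]

end Cfsg.Agent.H661.SC
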