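import Cfsg.Agent.H661.SC.Fix
import Cfsg.Agent.H477.HC.Cus

/-!
# Values of the cuspidal characters of `GL_n(F)` at semisimple elements (S4526, helper661)

* `cusp_elem` : for `g ^ N = 1`, `N` invertible in `F`: either the value of the cuspidal function is `0` or the
  characteristic polynomial is `f ^ m`, `f` irreducible, `f(g) = 0`, and the value is
  `(-1)^(n-1) (∑ θ(α)) ∏_{i<m-1} (1 - q^{d(i+1)})`;
* `cusp_re_nonneg` : the value is nonnegative if `θ(α) = (-1)^(n + n/d)` at the elements `α` of degree `d` over `F` with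
  `α ^ N = 1`;
* `eq_one_or_cusp` : if `N` is prime to `|L^*|` the value is zero for `g ≠ 1`;
* `fixAll_psi_coprime`, `fixAll_psi_of` : fixed vectors of all `p`-subgroups.
-/

set_option autoImplicit false

open Cfsg Polynomial
open scoped ComplexConjugate

namespace Cfsg.Agent.H661.SC

open Cfsg.Agent.H139.Cusp Cfsg.Agent.Characters.Core Cfsg.Agent.H625.SylConst

universe u v w

section elem

variable {F : Type u} [Field F] {V : Type v} [AddCommGroup V] [Module F V] [Finite V]

theorem dvd_of_pow_eq_one {g : V →ₗ[F] V} {N : ℕ} (hN : g ^ N = 1) {f : F[X]} (hirr : Irreducible f)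
    (hd : f ∣ g.charpoly) : f ∣ X ^ N - 1 := by
  by_contra h
  have hco : IsCoprime f (X ^ N - 1) := (hirr.coprime_iff_not_dvd).2 h
  obtain ⟨a, b, hab⟩ := hco
  have h1 : aeval g (X ^ N - 1 : F[X]) = 0 := by
    rw [map_sub, map_pow, aeval_X, map_one, hN, sub_self]
  have h2 := congrArg (aeval g) hab
  rw [map_add, map_mul, map_mul, h1, mul_zero, add_zero, map_one] at h2
  apply ker_aeval_ne_bot hirr hd
  rw [Submodule.eq_bot_iff]
  intro x hx
  rw [LinearMap.mem_ker] at hx
  have h3 := LinearMap.congr_fun h2 x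
  rw [Module.End.mul_apply, hx, map_zero, Module.End.one_apply] at h3
  exact h3.symm

theorem aeval_eq_zero_of_pow {g : V →ₗ[F] V} {N : ℕ} (hN : g ^ N = 1) (hNF : (N : F) ≠ 0) {f : F[X]} {m : ℕ}
    (hirr : Irreducible f) (hm : 0 < m) (hc : g.charpoly = f ^ m) : aeval g f = 0 := by
  have h1 : f ∣ X ^ N - 1 := dvd_of_pow_eq_one hN hirr (by rw [hc]; exact dvd_pow_self f hm.ne')
  obtain ⟨h, hh⟩ := h1
  have hsep : (X ^ N - 1 : F[X]).Separable := X_pow_sub_one_separable_iff.2 hNF
  rw [hh] at hsep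
  have hco : IsCoprime (f ^ m) h := hsep.isCoprime.pow_left
  obtain ⟨a, b, hab⟩ := hco
  have h2 : aeval g (f ^ m) = 0 := by rw [← hc]; exact LinearMap.aeval_self_charpoly g
  have h3 := congrArg (aeval g) hab
  rw [map_add, map_mul, h2, mul_zero, zero_add, map_mul, map_one] at h3
  have h4 : aeval g f * aeval g h = 0 := by
    rw [← map_mul, ← hh, map_sub, map_pow, aeval_X, map_one, hN, sub_self]
  calc aeval g f = (aeval g b * aeval g h) * aeval g f := by rw [h3, one_mul]
    _ = aeval g b * (aeval g f * aeval g h) := by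
        rw [mul_assoc, ← map_mul, mul_comm h f, map_mul]
    _ = 0 := by rw [h4, mul_zero]

end elem

section cusp

variable {F : Type u} [Field F] [Finite F] {V : Type v} [AddCommGroup V] [Module F V] [Finite V]
  {L : Type w} [Field L] [Finite L] [Algebra F L] (θ : L →*₀ ℂ)

/-- **The value at a semisimple element.** -/
theorem cusp_elem (hV : Module.finrank F V = Module.finrank F L) {g : V →ₗ[F] V} {N : ℕ} (hN : g ^ N = 1)
    (hNF : (N : F) ≠ 0) (h0 : cusp L θ g ≠ 0) :
    ∃ (f : F[X]) (m : ℕ), f.Monic ∧ Irreducible f ∧ g.charpoly = f ^ (m + 1) ∧ aeval g f = 0 ∧ f ∣ X ^ N - 1 ∧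
      Module.finrank F L = f.natDegree * (m + 1) ∧
      cusp L θ g = (-1) ^ (Module.finrank F L - 1) *
        (lb L θ f * ∏ i ∈ Finset.range m, (1 - (Nat.card F : ℂ) ^ (f.natDegree * (i + 1)))) := by
  have hn0 : 0 < Module.finrank F V := by rw [hV]; exact Module.finrank_pos
  have : Nontrivial V := Module.finrank_pos_iff.1 hn0
  rcases cusp_eq_zero_or L θ g with ⟨f, m, hf, hirr, hm, hc⟩ | h
  · obtain ⟨m, rfl⟩ : ∃ j, m = j + 1 := ⟨m - 1, by omega⟩
    have h1 := aeval_eq_zero_of_pow hN hNF hirr hm hc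
    have h2 : Module.finrank F V = f.natDegree * (m + 1) := by
      rw [← LinearMap.charpoly_natDegree g, hc, natDegree_pow, mul_comm]
    refine ⟨f, m, hf, hirr, hc, h1, dvd_of_pow_eq_one hN hirr (by rw [hc]; exact dvd_pow_self f hm.ne'),
      by rw [← hV, h2], ?_⟩
    rw [cusp_formula L θ hf hirr hc (k := m) ?_, hV]
    rw [h1, LinearMap.ker_zero, finrank_top, h2]
  · exact absurd h h0

omit [Finite F] [Finite L] in
theorem lb_of_const {f : F[X]} {z : ℂ} (h : ∀ α : L, aeval α f = 0 → θ α = z) :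
    lb L θ f = ((f.map (algebraMap F L)).roots.card : ℂ) * z := by
  rw [lb, Multiset.map_congr rfl (g := fun _ => z), Multiset.map_const', Multiset.sum_replicate, nsmul_eq_mul]
  intro α hα
  apply h
  have h1 := (mem_roots'.1 hα).2
  rwa [IsRoot.def, eval_map_algebraMap] at h1

theorem prod_eq {F : Type u} [Field F] [Finite F] (d m : ℕ) :
    ∏ i ∈ Finset.range m, (1 - (Nat.card F : ℂ) ^ (d * (i + 1))) =
    (-1) ^ m * ((∏ i ∈ Finset.range m, (Nat.card F ^ (d * (i + 1)) - 1) : ℕ) : ℂ) := by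
  rw [Nat.cast_prod]
  have h3 : ((-1 : ℂ)) ^ m = ∏ _j ∈ Finset.range m, (-1 : ℂ) := by
    rw [Finset.prod_const, Finset.card_range]
  rw [h3, ← Finset.prod_mul_distrib]
  refine Finset.prod_congr rfl fun i _ => ?_
  rw [Nat.cast_sub (Nat.one_le_pow _ _ Nat.card_pos)]
  push_cast
  ring

/-- **Nonnegative values** at the elements of order dividing `N`. -/
theorem cusp_re_nonneg (hV : Module.finrank F V = Module.finrank F L) {g : V →ₗ[F] V} {N : ℕ} (hN : g ^ N = 1)
    (hNF : (N : F) ≠ 0)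
    (hθ : ∀ α : L, α ^ N = 1 → ∀ m : ℕ, Module.finrank F L = (minpoly F α).natDegree * (m + 1) →
      θ α = (-1) ^ (Module.finrank F L + (m + 1))) : 0 ≤ (cusp L θ g).re := by
  by_cases h0 : cusp L θ g = 0
  · rw [h0, Complex.zero_re]
  obtain ⟨f, m, hf, hirr, hc, h1, h2, h3, h4⟩ := cusp_elem θ hV hN hNF h0
  have hroot : ∀ α : L, aeval α f = 0 → θ α = (-1) ^ (Module.finrank F L + (m + 1)) := by
    intro α hα
    have e1 : minpoly F α = f := (minpoly.eq_of_irreducible_of_monic hirr hα hf).symm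
    refine hθ α ?_ m (by rw [e1]; exact h3)
    obtain ⟨c, hc'⟩ := h2
    have h5 := congrArg (aeval α) hc'
    rw [map_mul, hα, zero_mul, map_sub, map_pow, aeval_X, map_one, sub_eq_zero] at h5
    exact h5
  have hn0 : 0 < Module.finrank F L := Module.finrank_pos
  rw [h4, lb_of_const θ hroot, prod_eq]
  have e : (-1 : ℂ) ^ (Module.finrank F L - 1) *
      (((f.map (algebraMap F L)).roots.card : ℂ) * (-1) ^ (Module.finrank F L + (m + 1)) *
        ((-1) ^ m * ((∏ i ∈ Finset.range m, (Nat.card F ^ (f.natDegree * (i + 1)) - 1) : ℕ) : ℂ))) =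
      (((f.map (algebraMap F L)).roots.card * ∏ i ∈ Finset.range m, (Nat.card F ^ (f.natDegree * (i + 1)) - 1) : ℕ) :
        ℂ) := by
    have e1 : (-1 : ℂ) ^ (Module.finrank F L - 1) * (-1) ^ (Module.finrank F L + (m + 1)) * (-1) ^ m = 1 := by
      rw [← pow_add, ← pow_add]
      have : Module.finrank F L - 1 + (Module.finrank F L + (m + 1)) + m = 2 * (Module.finrank F L + m) := by omega
      rw [this, pow_mul, neg_one_sq, one_pow]
    push_cast
    linear_combination (((f.map (algebraMap F L)).roots.card : ℂ) *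
      ∏ i ∈ Finset.range m, (((Nat.card F ^ (f.natDegree * (i + 1)) - 1 : ℕ)) : ℂ)) * e1
  rw [e, Complex.natCast_re]
  exact Nat.cast_nonneg _

/-- **Vanishing** at the elements of order prime to `|L^*|`. -/
theorem eq_one_or_cusp (hV : Module.finrank F V = Module.finrank F L) {g : V →ₗ[F] V} {N : ℕ} (hN : g ^ N = 1)
    (hNF : (N : F) ≠ 0) (hco : N.Coprime (Nat.card Lˣ)) : g = 1 ∨ cusp L θ g = 0 := by
  by_cases h0 : cusp L θ g = 0
  · exact Or.inr h0
  left
  obtain ⟨f, m, hf, hirr, hc, h1, h2, h3, h4⟩ := cusp_elem θ hV hN hNF h0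
  -- a root of `f`
  have hsp := splits_of_natDegree_dvd (L := L) hirr (by rw [h3]; exact dvd_mul_right _ _)
  have hdeg : (f.map (algebraMap F L)).degree ≠ 0 := by
    rw [degree_map]
    exact (degree_pos_of_irreducible hirr).ne'
  obtain ⟨α, hα⟩ := hsp.exists_eval_eq_zero hdeg
  rw [eval_map_algebraMap] at hα
  have hα1 : α ^ N = 1 := by
    obtain ⟨c, hc'⟩ := h2
    have h5 := congrArg (aeval α) hc'
    rw [map_mul, hα, zero_mul, map_sub, map_pow, aeval_X, map_one, sub_eq_zero] at h5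
    exact h5
  have hα0 : α ≠ 0 := by
    rintro rfl
    have hN0 : N ≠ 0 := by rintro rfl; exact hNF Nat.cast_zero
    rw [zero_pow hN0] at hα1
    exact zero_ne_one hα1
  have hα2 : α = 1 := by
    have e1 : (Units.mk0 α hα0) ^ N = 1 := Units.ext (by rw [Units.val_pow_eq_pow_val]; exact hα1)
    have e2 : (Units.mk0 α hα0) ^ Nat.card Lˣ = 1 := pow_card_eq_one'
    have e3 : orderOf (Units.mk0 α hα0) ∣ 1 := by
      rw [← hco]
      exact Nat.dvd_gcd (orderOf_dvd_of_pow_eq_one e1) (orderOf_dvd_of_pow_eq_one e2)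
    have e4 := orderOf_eq_one_iff.1 (Nat.dvd_one.1 e3)
    exact congrArg Units.val e4
  rw [hα2] at hα
  have h6 : f = X - 1 := by
    have e1 : minpoly F (1 : L) = f := (minpoly.eq_of_irreducible_of_monic hirr hα hf).symm
    rw [← e1, minpoly.one]
  rw [h6, map_sub, aeval_X, map_one, sub_eq_zero] at h1
  exact h1

end cusp

section fix

variable {F : Type u} [Field F] [Finite F] {L : Type w} [Field L] [Finite L] [Algebra F L] (θ : L →*₀ ℂ) {n p : ℕ}
  [hp : Fact p.Prime]

omit hp in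
theorem pow_cast_ne {k : ℕ} (hpF : (p : F) ≠ 0) : ((p ^ k : ℕ) : F) ≠ 0 := by
  rw [Nat.cast_pow]; exact pow_ne_zero _ hpF

omit [Finite F] hp in
/-- the order of an element of a `p`-subgroup -/
theorem exists_pow {R : Subgroup (GL (Fin n) F)} (hR : IsPGroup p R) {z : GL (Fin n) F} (hz : z ∈ R) :
    ∃ k : ℕ, z ^ p ^ k = 1 := by
  obtain ⟨k, hk⟩ := hR ⟨z, hz⟩
  exact ⟨k, congrArg Subtype.val hk⟩

omit [Finite F] in
theorem toLin_pow {z : GL (Fin n) F} {N : ℕ} (h : z ^ N = 1) :
    (Matrix.toLin' (z : Matrix (Fin n) (Fin n) F)) ^ N = 1 := by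
  rw [← Matrix.toLin'_pow, ← Units.val_pow_eq_pow_val, h, Units.val_one, Matrix.toLin'_one]
  rfl

/-- the degree is positive -/
theorem psi_one_re (hn : Module.finrank F L = n) : 0 < (psi L θ (1 : GL (Fin n) F)).re := by
  have h0 : 0 < n := by rw [← hn]; exact Module.finrank_pos
  rw [psi_one L θ h0, Complex.natCast_re]
  exact_mod_cast degP_pos Finite.one_lt_card n

/-- **Fixed vectors, I**: `p` does not divide `q ^ n - 1`. -/
theorem fixAll_psi_coprime (hn : Module.finrank F L = n) (hpF : (p : F) ≠ 0) (hp' : ¬ p ∣ Nat.card F ^ n - 1) :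
    FixAll p (psi (n := n) (F := F) L θ) := by
  intro R hR
  refine fix_of_re (psi_one_re θ hn) fun z hz => ?_
  obtain ⟨k, hk⟩ := exists_pow hR hz
  have hcardL : Nat.card Lˣ = Nat.card F ^ n - 1 := by
    rw [Nat.card_units, Module.natCard_eq_pow_finrank (K := F), hn]
  rcases eq_one_or_cusp θ (V := Fin n → F) (by rw [Module.finrank_fin_fun, hn]) (toLin_pow hk) (pow_cast_ne hpF)
    (Nat.Coprime.pow_left k (by rw [hcardL]; exact (Nat.Prime.coprime_iff_not_dvd hp.out).2 hp')) with h | h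
  · have h1 : z = 1 := by
      apply Units.ext
      rw [Units.val_one]
      apply (Matrix.toLin' : Matrix (Fin n) (Fin n) F ≃ₗ[F] _).injective
      rw [h, Matrix.toLin'_one]
      rfl
    rw [h1]
    exact (psi_one_re θ hn).le
  · have h1 : psi L θ z = 0 := h
    rw [h1, Complex.zero_re]

/-- **Fixed vectors, II**: signs. -/
theorem fixAll_psi_of (hn : Module.finrank F L = n) (hpF : (p : F) ≠ 0)
    (hθ : ∀ (α : L) (k : ℕ), α ^ p ^ k = 1 → ∀ m : ℕ, n = (minpoly F α).natDegree * (m + 1) →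
      θ α = (-1) ^ (n + (m + 1))) : FixAll p (psi (n := n) (F := F) L θ) := by
  intro R hR
  refine fix_of_re (psi_one_re θ hn) fun z hz => ?_
  obtain ⟨k, hk⟩ := exists_pow hR hz
  subst hn
  exact cusp_re_nonneg θ (V := Fin _ → F) (by rw [Module.finrank_fin_fun]) (toLin_pow hk) (pow_cast_ne hpF)
    (fun α hα m hm => hθ α k hα m hm)

end fix

end Cfsg.Agent.H661.SC
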