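import Cfsg.Agent.H661.SC.Cus
import Cfsg.Agent.H345.CusU

/-!
# Cuspidal data with fixed vectors (S4526, helper661)

* `fixAll_odd` : `n` odd, `α ^ a = 1` for all `p`-elements `α` of `L^*`;
* `fixAll_even` : `n = 2 n'`, `a = q ^ n' - 1`, `p ∣ q ^ n' - 1` (`4 ∣ q ^ n' - 1` if `p = 2`);
* `cus_psi`, `cusU_psi` : the data of helper477 / helper345 for a given exponent.
-/

set_option autoImplicit false

open Cfsg Polynomial
open scoped ComplexConjugate

namespace Cfsg.Agent.H661.SC

open Cfsg.Agent.H139.Cusp Cfsg.Agent.Characters.Core Cfsg.Agent.H625.SylConst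

universe u v w

theorem sq_eq_one_iff_of_side_aux {z : ℂ} (h : z ^ 2 = 1) : z = 1 ∨ z = -1 := by
  have h1 : (z - 1) * (z + 1) = 0 := by linear_combination h
  rcases mul_eq_zero.1 h1 with h2 | h2
  · exact Or.inl (sub_eq_zero.1 h2)
  · exact Or.inr (eq_neg_of_add_eq_zero_left h2)

section fix

variable {F : Type u} [Field F] [Finite F] {L : Type w} [Field L] [Finite L] [Algebra F L] {θ : L →*₀ ℂ} {n p : ℕ}
  [hp : Fact p.Prime]

omit [Finite F] hp in
theorem card_units_eq (hn : Module.finrank F L = n) : Nat.card Lˣ = Nat.card F ^ n - 1 := by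
  rw [Nat.card_units, Module.natCard_eq_pow_finrank (K := F), hn]

omit [Finite F] hp in
theorem pow_card_sub_one (hn : Module.finrank F L = n) {α : L} (hα : α ≠ 0) : α ^ (Nat.card F ^ n - 1) = 1 := by
  rw [← card_units_eq hn]
  have h : (Units.mk0 α hα) ^ Nat.card Lˣ = 1 := pow_card_eq_one'
  exact congrArg Units.val h

omit [Finite L] hp in
theorem pow_eq_of_dvd {α : L} {j : ℕ} (h : (minpoly F α).natDegree ∣ j) (hi : IsIntegral F α) :
    α ^ Nat.card F ^ j = α := by
  have h1 : minpoly F α ∣ X ^ (Nat.card F ^ j) - X :=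
    (minpoly.irreducible hi).natDegree_dvd_iff_dvd_X_pow_card_pow_sub_X.1 h
  obtain ⟨c, hc⟩ := h1
  have h5 := congrArg (aeval α) hc
  rw [map_mul, minpoly.aeval, zero_mul, map_sub, map_pow, aeval_X, sub_eq_zero] at h5
  exact h5

omit hp in
theorem fixAll_odd [Fact p.Prime] (hn : Module.finrank F L = n) (hpF : (p : F) ≠ 0) (hodd : Odd n) {a : ℕ} (ha : a ≠ 0)
    (h : ∀ (α : L) (k : ℕ), α ^ p ^ k = 1 → α ^ a = 1) :
    FixAll p (psi (n := n) (F := F) L (powTheta θ a ha)) := by
  refine fixAll_psi_of _ hn hpF fun α k hα m hm => ?_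
  have h1 : Odd (m + 1) := by
    rw [hm] at hodd
    exact (Nat.odd_mul.1 hodd).2
  rw [(hodd.add_odd h1).neg_one_pow, powTheta_eq_one ha (h α k hα)]

theorem fixAll_even (hθ : Function.Injective θ) {n' : ℕ} (hn : Module.finrank F L = 2 * n') (hpF : (p : F) ≠ 0)
    (h1 : p ∣ Nat.card F ^ n' - 1) (h2 : p = 2 → 4 ∣ Nat.card F ^ n' - 1) (ha : Nat.card F ^ n' - 1 ≠ 0) :
    FixAll p (psi (n := 2 * n') (F := F) L (powTheta θ (Nat.card F ^ n' - 1) ha)) := by
  refine fixAll_psi_of _ hn hpF fun α k hα m hm => ?_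
  set Q : ℕ := Nat.card F ^ n' with hQ
  have hα0 : α ≠ 0 := by
    rintro rfl
    rw [zero_pow (pow_ne_zero k hp.out.ne_zero)] at hα
    exact zero_ne_one hα
  have hi : IsIntegral F α := integral_of_finite α
  have hQ1 : 1 < Q := by omega
  -- `β = α ^ (Q - 1)`
  set β : L := α ^ (Q - 1) with hβ
  have hβ1 : β ^ (Q + 1) = 1 := by
    rw [hβ, ← pow_mul]
    have e : (Q - 1) * (Q + 1) = Nat.card F ^ (2 * n') - 1 := by
      rw [two_mul, pow_add, ← hQ]
      obtain ⟨x, hx⟩ : ∃ x, Q = x + 1 := ⟨Q - 1, by omega⟩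
      rw [hx, Nat.add_sub_cancel]
      have : (x + 1) * (x + 1) = x * (x + 1 + 1) + 1 := by ring
      omega
    rw [e]
    exact pow_card_sub_one hn hα0
  have hβ2 : β ^ p ^ k = 1 := by rw [hβ, ← pow_mul, mul_comm, pow_mul, hα, one_pow]
  have hd : orderOf β ∣ Nat.gcd (p ^ k) (Q + 1) :=
    Nat.dvd_gcd (orderOf_dvd_of_pow_eq_one hβ2) (orderOf_dvd_of_pow_eq_one hβ1)
  -- the value of `θ ^ a` is `θ β`
  have hval : powTheta θ (Q - 1) ha α = θ β := by rw [powTheta_apply, hβ, map_pow]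
  rw [hval]
  have hn0 : n' ≠ 0 := by rintro rfl; rw [hQ, pow_zero] at hQ1; omega
  have key : β = 1 ↔ Even (m + 1) := by
    constructor
    · intro hb
      have h3 : α ^ Nat.card F ^ n' = α := by
        rw [← hQ, show Q = (Q - 1) + 1 by omega, pow_succ, ← hβ, hb, one_mul]
      obtain ⟨s, hs⟩ := dvd_of_mem h3
      have h4 : (minpoly F α).natDegree ≠ 0 := by
        intro h0; rw [h0, zero_mul] at hs; exact hn0 hs
      have h5 : (minpoly F α).natDegree * (m + 1) = (minpoly F α).natDegree * (2 * s) := by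
        rw [← hm, hs]; ring
      rw [Nat.eq_of_mul_eq_mul_left (Nat.pos_of_ne_zero h4) h5]
      exact even_two_mul s
    · rintro ⟨s, hs⟩
      have h3 : n' = (minpoly F α).natDegree * s := by
        have : 2 * n' = 2 * ((minpoly F α).natDegree * s) := by rw [hm, hs]; ring
        omega
      have h4 := pow_eq_of_dvd (F := F) (α := α) (j := n') ⟨s, h3⟩ hi
      rw [← hQ, show Q = (Q - 1) + 1 by omega, pow_succ, ← hβ] at h4
      exact mul_right_cancel₀ hα0 (by rw [h4, one_mul])
  rcases Nat.even_or_odd (m + 1) with he | ho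
  · rw [key.2 he, map_one, ((even_two_mul n').add he).neg_one_pow]
  · rw [((even_two_mul n').add_odd ho).neg_one_pow]
    have hb : β ≠ 1 := fun h => (Nat.not_even_iff_odd.2 ho) (key.1 h)
    -- then `p = 2` and `β = - 1`
    have hp2 : p = 2 := by
      by_contra hp2
      have h3 : ¬ p ∣ Q + 1 := by
        intro h3
        have h4 : p ∣ (Q + 1) - (Q - 1) := Nat.dvd_sub h3 h1
        have h5 : (Q + 1) - (Q - 1) = 2 := by omega
        rw [h5] at h4
        exact hp2 ((Nat.prime_dvd_prime_iff_eq hp.out Nat.prime_two).1 h4)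
      have h4 : Nat.gcd (p ^ k) (Q + 1) = 1 :=
        Nat.Coprime.pow_left k ((Nat.Prime.coprime_iff_not_dvd hp.out).2 h3)
      rw [h4, Nat.dvd_one, orderOf_eq_one_iff] at hd
      exact hb hd
    have h3 := h2 hp2
    have h4 : Nat.gcd (p ^ k) (Q + 1) ∣ 2 := by
      subst hp2
      obtain ⟨i, -, hi'⟩ := (Nat.dvd_prime_pow Nat.prime_two).1 (Nat.gcd_dvd_left (2 ^ k) (Q + 1))
      rw [hi']
      have h5 : 2 ^ i ∣ Q + 1 := by rw [← hi']; exact Nat.gcd_dvd_right _ _
      rcases Nat.lt_or_ge i 2 with h6 | h6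
      · exact (pow_dvd_pow 2 (show i ≤ 1 by omega)).trans (by norm_num)
      · exfalso
        have h7 : 4 ∣ Q + 1 := Dvd.dvd.trans (by have := pow_dvd_pow 2 h6; norm_num at this; exact this) h5
        omega
    have h5 : β ^ 2 = 1 := by
      have := hd.trans h4
      exact orderOf_dvd_iff_pow_eq_one.1 this
    have h6 : θ β ^ 2 = 1 := by rw [← map_pow, h5, map_one]
    have h7 : θ β ≠ 1 := fun h => hb (hθ (by rw [h, map_one]))
    rcases (sq_eq_one_iff_of_side_aux h6) with h8 | h8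
    · exact absurd h8 h7
    · exact h8

end fix

section data

open Cfsg.Agent.H477.HC Cfsg.Agent.H53.HC Cfsg.Agent.H345.CusU

variable {K : Type u} [Field K] [Finite K]

/-- the datum with exponent `a`, for `σ = id` -/
theorem cus_psi {L : Type w} [Field L] [Finite L] [Algebra K L] {θ : L →*₀ ℂ} (hθ : Function.Injective θ) {k : ℕ}
    (hk : 0 < k) (hL : Module.finrank K L = k) (a : ℕ) (ha : a ≠ 0)
    (hreg : ∀ i, 0 < i → i < k → ¬ (Nat.card K ^ k - 1) ∣ a * (Nat.card K ^ i - 1))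
    (hdual : ∀ i, i < k → ¬ (Nat.card K ^ k - 1) ∣ a * Nat.card K ^ i + a) :
    Cus K k (RingHom.id K) (fun z => z ^ a = 1) (psi L (powTheta θ a ha)) := by
  classical
  have hcardL : Nat.card Lˣ = Nat.card K ^ k - 1 := by
    rw [Nat.card_units, Module.natCard_eq_pow_finrank (K := K), hL]
  have hR : Regular K k (powTheta θ a ha) := (regular_powTheta_iff hθ ha hL).2 hreg
  refine ⟨psi_isIrr _ hL hR, psi_isCusp L _, ?_, ?_, ?_⟩
  · intro h
    have h1 : ∀ g : ((Fin k → K) →ₗ[K] (Fin k → K))ˣ, cusp L (powTheta θ a ha) (g : (Fin k → K) →ₗ[K] (Fin k → K)) =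
        cusp L (conjTheta (powTheta θ a ha)) (g : (Fin k → K) →ₗ[K] (Fin k → K)) := by
      intro g
      let A : GL (Fin k) K := Matrix.GeneralLinearGroup.toLin.symm g
      have h2 := congrFun h A
      have h3 : ((Matrix.GeneralLinearGroup.map (RingHom.id K)).comp (invT k)) A = invT k A := by
        ext i j
        rfl
      rw [Function.comp_apply, h3, psi_invT _ hL] at h2
      have h4 : psi L (powTheta θ a ha) A = cusp L (powTheta θ a ha) (g : (Fin k → K) →ₗ[K] (Fin k → K)) := by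
        have h5 : Matrix.GeneralLinearGroup.toLin A = g := MulEquiv.apply_symm_apply _ g
        rw [← h5]
        rfl
      rw [h4, cusp_star] at h2
      exact h2.symm
    obtain ⟨i, hi, h2⟩ := (cusp_eq_iff (V := Fin k → K) (powTheta θ a ha) (conjTheta (powTheta θ a ha))
      (by rw [Module.finrank_fin_fun, hL]) (by rw [hL]; exact hR)).1 h1
    rw [hL] at hi
    have h3 := (conj_powTheta_eq_iff hθ ha ha (pow_ne_zero i (Nat.card_pos (α := K)).ne')).1 h2
    rw [hcardL] at h3
    exact hdual i hi h3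
  · intro z hz
    have h1 := psi_scalar (powTheta θ a ha) hL z 1
    rw [mul_one] at h1
    rw [h1, powTheta_eq_one ha, one_mul]
    rw [← map_pow, ← Units.val_pow_eq_pow_val, hz, Units.val_one, map_one]
  · rw [psi_one L _ hk, degP_eq_Ico]

/-- the datum with exponent `a`, for `σ = (x ↦ x ^ q)`, `|K| = q ^ 2` -/
theorem cusU_psi {q : ℕ} (hq : Nat.card K = q ^ 2) {L : Type w} [Field L] [Finite L] [Algebra K L] {θ : L →*₀ ℂ}
    (hθ : Function.Injective θ) {k : ℕ} (hk0 : 0 < k) (hL : Module.finrank K L = k) (a : ℕ) (ha : a ≠ 0)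
    (hreg : ∀ i, 0 < i → i < k → ¬ (Nat.card K ^ k - 1) ∣ a * (Nat.card K ^ i - 1))
    (hdual : ∀ i, i < k → ¬ (Nat.card K ^ k - 1) ∣ a * Nat.card K ^ i + a * q) :
    Cus K k (CForm.powHom hq) (fun z => z ^ a = 1) (psi L (powTheta θ a ha)) := by
  classical
  have hq2 : 2 ≤ q := CForm.two_le_of_card hq
  have hcardL : Nat.card Lˣ = Nat.card K ^ k - 1 := by
    rw [Nat.card_units, Module.natCard_eq_pow_finrank (K := K), hL]
  have hb : a * q ≠ 0 := Nat.mul_ne_zero ha (by omega)
  have hR : Regular K k (powTheta θ a ha) := (regular_powTheta_iff hθ ha hL).2 hreg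
  refine ⟨psi_isIrr _ hL hR, psi_isCusp L _, ?_, ?_, ?_⟩
  · intro h
    have h1 : ∀ g : ((Fin k → K) →ₗ[K] (Fin k → K))ˣ,
        cusp L (powTheta θ a ha) (g : (Fin k → K) →ₗ[K] (Fin k → K)) =
        cusp L (conjTheta (powTheta θ (a * q) hb)) (g : (Fin k → K) →ₗ[K] (Fin k → K)) := by
      intro g
      let A : GL (Fin k) K := Matrix.GeneralLinearGroup.toLin.symm g
      have h2 := congrFun h A
      rw [Function.comp_apply, MonoidHom.comp_apply,
        psi_map_pow (powTheta θ a ha) (powTheta θ (a * q) hb) hL hq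
          (fun x => by rw [powTheta_apply, powTheta_apply, map_pow, ← pow_mul, mul_comm q]),
        psi_invT _ hL] at h2
      have h4 : ∀ θ₁ : L →*₀ ℂ, psi L θ₁ A = cusp L θ₁ (g : (Fin k → K) →ₗ[K] (Fin k → K)) := by
        intro θ₁
        have h5 : Matrix.GeneralLinearGroup.toLin A = g := MulEquiv.apply_symm_apply _ g
        rw [← h5]
        rfl
      rw [h4, h4, cusp_star] at h2
      exact h2.symm
    obtain ⟨i, hi, h2⟩ := (cusp_eq_iff (V := Fin k → K) (powTheta θ a ha)
      (conjTheta (powTheta θ (a * q) hb))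
      (by rw [Module.finrank_fin_fun, hL]) (by rw [hL]; exact hR)).1 h1
    rw [hL] at hi
    have h3 := (conj_powTheta_eq_iff hθ ha hb (pow_ne_zero i (Nat.card_pos (α := K)).ne')).1 h2
    rw [hcardL] at h3
    exact hdual i hi h3
  · intro z hz
    have h1 := psi_scalar (powTheta θ a ha) hL z 1
    rw [mul_one] at h1
    rw [h1, powTheta_eq_one ha, one_mul]
    rw [← map_pow, ← Units.val_pow_eq_pow_val, hz, Units.val_one, map_one]
  · rw [psi_one L _ hk0, degP_eq_Ico]

end data

end Cfsg.Agent.H661.SC
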