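import Cfsg.Agent.H661.SC.NonPrin
import Cfsg.Agent.BpExc.TorChev
import Cfsg.Agent.H280.ObFold
import Cfsg.Agent.H788.NB.Fold
import Cfsg.Agent.H631.ExcChev

/-!
# `NoCent 2` from an element inverting the torus (S4526, helper661)

* `noCent_of_inv` : the elements of odd order commuting with the involutions `z i ∈ T` lie in the abelian group `T`, `k`
  inverts `T`, `k ^ 2 ∈ T`;
* `inv_TT` : the representatives of `-1 ∈ W` invert the torus of `D.group K`.
-/

set_option autoImplicit false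
set_option linter.unusedSectionVars false

namespace Cfsg.Agent.H661.SC

/-- **The criterion.** -/
theorem noCent_of_inv {G ι : Type*} [Group G] [Finite G] (T : Subgroup G) (hT : ∀ a ∈ T, ∀ b ∈ T, a * b = b * a)
    {z : ι → G} (hz : ∀ i, z i ∈ T) (hz2 : ∀ i, z i * z i = 1) {k : G} (hk : ∀ t ∈ T, k * t * k⁻¹ = t⁻¹)
    (hk2 : k * k ∈ T) (hmem : ∀ g, (∀ i, z i * g = g * z i) → Odd (orderOf g) → g ∈ T) : NoCent 2 G := by
  have h2 : Fact (Nat.Prime 2) := ⟨Nat.prime_two⟩
  intro g hg hle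
  -- `k ^ 4 = 1`
  have hk4 : k ^ 4 = 1 := by
    have h1 := hk _ hk2
    have h3 : k * (k * k) * k⁻¹ = k * k := by group
    rw [h3] at h1
    have h4 : k * k * (k * k) = 1 := by
      nth_rewrite 1 [h1]
      exact inv_mul_cancel _
    rw [show (4 : ℕ) = 2 * 2 from rfl, pow_mul, sq k, sq, h4]
  have hkz : ∀ i, k * z i = z i * k := by
    intro i
    have h1 := hk _ (hz i)
    have h3 : (z i)⁻¹ = z i := inv_eq_of_mul_eq_one_left (hz2 i)
    rw [h3] at h1
    exact mul_inv_eq_iff_eq_mul.1 h1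
  -- the 2-group
  set V : Subgroup G := Subgroup.closure (Set.range z) with hV
  have hV2 : IsPGroup 2 V := H631.isPGroup_closure z hz2 fun i j => hT _ (hz i) _ (hz j)
  have hVk : V ≤ Subgroup.centralizer ({k} : Set G) := by
    rw [hV, Subgroup.closure_le]
    rintro _ ⟨i, rfl⟩
    rw [SetLike.mem_coe, Subgroup.mem_centralizer_singleton_iff]
    exact (hkz i).symm
  have hZ2 : IsPGroup 2 (Subgroup.zpowers k) := by
    rintro ⟨x, hx⟩
    obtain ⟨i, rfl⟩ := Subgroup.mem_zpowers_iff.1 hx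
    refine ⟨2, Subtype.ext ?_⟩
    show (k ^ i) ^ 2 ^ 2 = 1
    rw [← zpow_natCast, ← zpow_mul, mul_comm, zpow_mul]
    have : k ^ ((2 ^ 2 : ℕ) : ℤ) = 1 := by
      rw [zpow_natCast]; exact hk4
    rw [this, one_zpow]
  have hkV : Subgroup.zpowers k ≤ Subgroup.normalizer (V : Set G) := by
    rw [Subgroup.zpowers_le, Subgroup.mem_normalizer_iff]
    intro v
    constructor
    · intro hv
      have h1 := Subgroup.mem_centralizer_singleton_iff.1 (hVk hv)
      rw [← h1, mul_inv_cancel_right]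
      exact hv
    · intro hv
      have h1 := Subgroup.mem_centralizer_singleton_iff.1 (hVk hv)
      have h3 : k * v * k⁻¹ = v := by
        have h4 : k * v * k⁻¹ * k = k * (k * v * k⁻¹) := h1
        have h5 : k * v = k * (k * v * k⁻¹) := by rw [← h4]; group
        exact (mul_left_cancel h5).symm
      rwa [h3] at hv
  have hQ : IsPGroup 2 ↥(Subgroup.zpowers k ⊔ V) := hZ2.to_sup_of_normal_right' hV2 hkV
  -- a Sylow 2-subgroup of the centralizer
  obtain ⟨P⟩ : Nonempty (Sylow 2 ↥(Subgroup.centralizer ({g} : Set G))) := inferInstance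
  have hPc : Nat.card ((P : Subgroup ↥(Subgroup.centralizer ({g} : Set G))).map
      (Subgroup.centralizer ({g} : Set G)).subtype) =
      2 ^ (Nat.card ↥(Subgroup.centralizer ({g} : Set G))).factorization 2 := by
    rw [Subgroup.card_map_of_injective (Subgroup.subtype_injective _)]
    exact P.card_eq_multiplicity
  have hfac : (Nat.card ↥(Subgroup.centralizer ({g} : Set G))).factorization 2 = (Nat.card G).factorization 2 :=
    le_antisymm ((Nat.factorization_le_iff_dvd Nat.card_pos.ne' Nat.card_pos.ne').2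
      (Subgroup.card_subgroup_dvd_card _) 2) hle
  rw [hfac] at hPc
  let P' : Sylow 2 G := Sylow.ofCard _ hPc
  obtain ⟨S, hS⟩ := hQ.exists_le_sylow
  obtain ⟨y, hy⟩ := MulAction.exists_smul_eq G P' S
  have hgS : ∀ s ∈ S, s * (y * g * y⁻¹) = (y * g * y⁻¹) * s := by
    intro s hs
    rw [← hy] at hs
    have hs' : s ∈ (y • P' : Sylow 2 G).1 := hs
    rw [Sylow.coe_subgroup_smul] at hs'
    obtain ⟨a, ha, rfl⟩ := Subgroup.mem_smul_pointwise_iff_exists _ _ _ |>.1 hs'
    have ha' : a ∈ (P : Subgroup ↥(Subgroup.centralizer ({g} : Set G))).map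
      (Subgroup.centralizer ({g} : Set G)).subtype := ha
    obtain ⟨b, -, rfl⟩ := ha'
    have hb := Subgroup.mem_centralizer_singleton_iff.1 b.2
    show (MulAut.conj y) (b : G) * (y * g * y⁻¹) = (y * g * y⁻¹) * (MulAut.conj y) (b : G)
    rw [MulAut.conj_apply]
    calc y * (b : G) * y⁻¹ * (y * g * y⁻¹) = y * ((b : G) * g) * y⁻¹ := by group
      _ = y * (g * (b : G)) * y⁻¹ := by rw [hb]
      _ = _ := by group
  set g' := y * g * y⁻¹ with hg'
  have hodd : Odd (orderOf g') := by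
    have h1 : orderOf g' = orderOf g := by
      exact orderOf_injective (MulAut.conj y).toMonoidHom (MulAut.conj y).injective g
    rw [h1]
    exact Nat.not_even_iff_odd.1 fun h3 => hg (even_iff_two_dvd.1 h3)
  have h1 : g' ∈ T := by
    refine hmem g' (fun i => hgS _ (hS ?_)) hodd
    exact Subgroup.mem_sup_right (Subgroup.subset_closure ⟨i, rfl⟩)
  have h3 : k * g' * k⁻¹ = g' := by
    rw [hgS k (hS (Subgroup.mem_sup_left (Subgroup.mem_zpowers k)))]
    group
  rw [hk _ h1] at h3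
  have h4 : g' ^ 2 = 1 := by
    rw [sq]
    nth_rewrite 1 [← h3]
    exact inv_mul_cancel _
  have h5 : g' = 1 := by
    have h6 : orderOf g' ∣ 2 := orderOf_dvd_of_pow_eq_one h4
    rcases (Nat.dvd_prime Nat.prime_two).1 h6 with h7 | h7
    · exact orderOf_eq_one_iff.1 h7
    · rw [h7] at hodd
      exact absurd hodd (by decide)
  have h6 : g = y⁻¹ * g' * y := by rw [hg']; group
  rw [h6, h5]
  group

section

open CoxeterSystem Cfsg Cfsg.Lie Cfsg.Lie.ChevalleyDatum
open Cfsg.Agent.ChevalleyStructure Cfsg.Agent.ChevalleyStructure.Elts Cfsg.Agent.ChevalleyStructure.CoxeterGeom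
  Cfsg.Agent.ChevalleyStructure.CoxeterGeomTypes Cfsg.Agent.ChevalleyStructure.NPerm
open Cfsg.Agent.Tits.Roots Cfsg.Agent.Tits.Core Cfsg.Agent.Nodes Cfsg.Agent.Nodes.Reps Cfsg.Agent.Nodes.BNOf
  Cfsg.Agent.Nodes.RGDChev Cfsg.Agent.Nodes.Bruhat Cfsg.Agent.Nodes.NormalForm
open Cfsg.Agent.KFacts.RgdField Cfsg.Agent.KFacts.RgdChevCoord

variable {D : ChevalleyDatum} {l : ℕ} {M : CoxeterMatrix (Fin l)} (hp : IsType D l M) {K : Type} [Field K] [Finite K]
  {W : Type*} [Group W] (cs : CoxeterSystem M W) (r : ℕ) [Fact r.Prime] [CharP K r]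

/-- **The representatives of `-1 ∈ W` invert the torus** modulo the centre. -/
theorem inv_TT {w : W} (hw : ∀ x, rep cs hp.isCartan w x = -x) {e : ↥(D.group K)}
    (he : Rp cs (rgd (K := K) hp cs r).nsys w e) {t : ↥(D.group K)} (ht : t ∈ TT D K) (g : ↥(D.group K)) :
    (e * t * e⁻¹ * t) * g = g * (e * t * e⁻¹ * t) := by
  have Co := coords (K := K) hp cs r
  have hA := BpExc.TorChev.chAdd (K := K) hp cs r
  have ht' : e * t * e⁻¹ ∈ TT D K := (Subgroup.mem_normalizer_iff.1 he.mem_normalizer t).1 ht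
  have key : ∀ a, IsRoot cs hp.isCartan a → ∀ u ∈ XX D l K a, e * t * e⁻¹ * t * u = u * (e * t * e⁻¹ * t) := by
    intro a ha u hu
    obtain ⟨φ, h0, hadd, hφ⟩ := hA t ht
    have h2 : ch hp a (e * t * e⁻¹) = ch hp (-a) t := by
      have h3 := Co.chi_rp (rgd (K := K) hp cs r).nsys he ha.neg ht
      rw [hw, neg_neg] at h3
      exact h3
    have h4 : ch hp a (e * t * e⁻¹) * ch hp a t = 1 := by
      rw [h2, hφ a ha, hφ _ ha.neg, ← hadd, neg_add_cancel, h0]
    obtain ⟨b, rfl⟩ := ((Co.coord a ha).mem u).1 hu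
    have h5 := (Co.coord a ha).act t ht b
    have h6 := (Co.coord a ha).act _ ht' (ch hp a t * b)
    have h7 : e * t * e⁻¹ * t * xc hp a b * (e * t * e⁻¹ * t)⁻¹ = xc hp a b := by
      calc e * t * e⁻¹ * t * xc hp a b * (e * t * e⁻¹ * t)⁻¹ =
          e * t * e⁻¹ * (t * xc hp a b * t⁻¹) * (e * t * e⁻¹)⁻¹ := by group
        _ = xc hp a b := by rw [h5, h6, ← mul_assoc, h4, one_mul]
    exact mul_inv_eq_iff_eq_mul.1 h7
  set z := e * t * e⁻¹ * t with hz
  have h1 : Nodes.RGDLib.G1 cs hp.isCartan (XX D l K) ≤ Subgroup.centralizer ({z} : Set ↥(D.group K)) := by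
    refine RGD.Sup_le fun a ha u hu => ?_
    rw [Subgroup.mem_centralizer_singleton_iff]
    exact (key a ha u hu).symm
  rw [G1_eq_top hp cs] at h1
  exact (Subgroup.mem_centralizer_singleton_iff.1 (h1 (Subgroup.mem_top g))).symm


/-- a representative of a word -/
theorem rp_word (ω : List (Fin l)) : Rp cs (rgd (K := K) hp cs r).nsys (cs.wordProd ω)
    ((ω.map fun i => (⟨nn hp K i, nn_mem_group hp i⟩ : ↥(D.group K))).prod) := by
  induction ω with
  | nil => rw [wordProd_nil, List.map_nil, List.prod_nil]; exact rp_one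
  | cons i ω ih =>
    rw [wordProd_cons, List.map_cons, List.prod_cons]
    exact (rp_simple cs (rgd (K := K) hp cs r).nsys i).mul ih

omit [Finite K] in
theorem rep_word (ω : List (Fin l)) (v : Fin l → ℤ) : rep cs hp.isCartan (cs.wordProd ω) v =
    ω.foldr (fun i v => Nodes.RGDFold.refl (cartanOf D l) i v) v := by
  induction ω with
  | nil => rw [wordProd_nil, map_one, Module.End.one_apply]; rfl
  | cons i ω ih =>
    rw [wordProd_cons, rep_mul_apply, ih, Nodes.RGDFold.rep_refl]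
    rfl

omit [Finite K] in
/-- `-1 ∈ W` from a word. -/
theorem rep_neg_word {ω : List (Fin l)}
    (h : ∀ i : Fin l, ω.foldr (fun i v => Nodes.RGDFold.refl (cartanOf D l) i v) (sr i) = -sr i) (x : Fin l → ℤ) :
    rep cs hp.isCartan (cs.wordProd ω) x = -x := by
  have h1 : rep cs hp.isCartan (cs.wordProd ω) = -1 := by
    apply LinearMap.pi_ext'
    intro i
    apply LinearMap.ext_ring
    show rep cs hp.isCartan (cs.wordProd ω) (Pi.single i 1) = -Pi.single i 1
    exact (rep_word hp cs ω _).trans (h i)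
  rw [h1]
  rfl

include hp in
/-- **Chevalley groups with `-1 ∈ W`** -/
theorem noCent_chev (hK : (2 : K) ≠ 0) (hc : H631.ExcChev.chkOdd D l = true)
    (hZ : Subgroup.center ↥(D.group K) = ⊥) {ω : List (Fin l)}
    (h : ∀ i : Fin l, ω.foldr (fun i v => Nodes.RGDFold.refl (cartanOf D l) i v) (sr i) = -sr i) :
    NoCent 2 ↥(D.group K) := by
  obtain ⟨r, hr, hcp⟩ : ∃ p : ℕ, p.Prime ∧ CharP K p := by
    obtain ⟨p, hcp⟩ := CharP.exists K
    exact ⟨p, CharP.char_is_prime K p, hcp⟩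
  have : Fact r.Prime := ⟨hr⟩
  let cs : CoxeterSystem M M.Group := M.toCoxeterSystem
  have hW : Finite M.Group := finite_W hp cs
  have R := rgd (K := K) hp cs r
  have he := rp_word (K := K) hp cs r ω
  set e := ((ω.map fun i => (⟨nn hp K i, nn_mem_group hp i⟩ : ↥(D.group K))).prod) with hedef
  have hw := rep_neg_word hp cs h
  have hG : GG cs hp.isCartan (TT D K) (XX D l K) = ⊤ := BpExc.TorChev.GG_top hp cs
  have hz := H631.ExcChev.invols hp K hK hc cs
  refine noCent_of_inv (TT D K) (fun a ha b hb => BpExc.TorChev.TT_comm hp a ha b hb) (k := e) hz.mem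
    (fun i => GenExc.Chev.zS_sq hp K [i]) ?_ ?_ ?_
  · intro t ht
    have h1 := inv_TT hp cs r hw he ht
    have h2 : e * t * e⁻¹ * t ∈ Subgroup.center ↥(D.group K) := Subgroup.mem_center_iff.2 fun g => (h1 g).symm
    rw [hZ, Subgroup.mem_bot] at h2
    exact eq_inv_of_mul_eq_one_left h2
  · have h1 := he.mul he
    have h2 : cs.wordProd ω * cs.wordProd ω = 1 := by
      apply rep_injective cs hp.isCartan
      apply LinearMap.ext
      intro x
      rw [rep_mul_apply, hw, hw, neg_neg, map_one, Module.End.one_apply]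
    rw [h2] at h1
    exact h1.mem_of_one
  · intro g hg ho
    exact H631.mem_T_of_commute R hG hz hg ho (pow_orderOf_eq_one g)

end

/-! ### folded groups -/

section Fold

open CoxeterSystem Cfsg Cfsg.Lie Cfsg.Lie.ChevalleyDatum
open Cfsg.Agent.ChevalleyStructure Cfsg.Agent.ChevalleyStructure.Elts Cfsg.Agent.ChevalleyStructure.CoxeterGeom
  Cfsg.Agent.ChevalleyStructure.CoxeterGeomTypes Cfsg.Agent.ChevalleyStructure.TwistedU
open Cfsg.Agent.Tits.Roots Cfsg.Agent.Tits.Core Cfsg.Agent.Nodes Cfsg.Agent.Nodes.Reps Cfsg.Agent.Nodes.BNOf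
  Cfsg.Agent.Nodes.RGDChev Cfsg.Agent.Nodes.Bruhat
open Cfsg.Agent.Nodes.RGDTwGen Cfsg.Agent.Nodes.RGDFold Cfsg.Agent.Nodes.RGDFoldSL Cfsg.Agent.Nodes.RGDTwCoord
open Cfsg.Agent.KFacts.RgdField Cfsg.Agent.KFacts.RgdChevCoord
open Cfsg.Agent.OddHalf.NI Cfsg.Agent.H631 Cfsg.Agent.H631.ExcFold

variable {D : ChevalleyDatum} {l : ℕ} {M' : CoxeterMatrix (Fin l)} {hp : IsType D l M'} {K : Type} [Field K]
  {m : ℕ} {M : CoxeterMatrix (Fin m)} {A : Fin m → Fin m → ℤ}
  {J : Fin m → List (Fin l)} {L : List (List ℕ)} {σ : GL D.Idx K →* GL D.Idx K} {ρ ρ' : ℕ → ℕ}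
    {f : ℕ → K → K} {G : Subgroup (GL D.Idx K)} {rep' : Fin m → ℕ} {rest : Fin m → List ℕ} {φ : K →+* K}
  (FG : FoldGrp hp K J L σ ρ ρ' f G)
  (N : ∀ i, NodeOK D J L ρ i (rep' i) (rest i)) (hf : ∀ i, ∀ s ∈ rep' i :: rest i, ∀ t, f s t = φ t)
  (h : IsCartan M A) (FD : FoldData D M A J L)

include h FD FG N hf in
/-- **Folded groups with `-1 ∈ W`** -/
theorem noCent_fold [Finite K] (C : Chk D J A) (hK : (2 : K) ≠ 0) (hZ : Subgroup.center ↥G = ⊥) {ω : List (Fin m)}
    (hω : ∀ i : Fin l, (ω.flatMap J).foldr (fun i v => Nodes.RGDFold.refl (cartanOf D l) i v) (sr i) = -sr i) :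
    NoCent 2 ↥G := by
  obtain ⟨p, hpr, hcp⟩ : ∃ p : ℕ, p.Prime ∧ CharP K p := by
    obtain ⟨p, hcp⟩ := CharP.exists K
    exact ⟨p, CharP.char_is_prime K p, hcp⟩
  haveI : Fact p.Prime := ⟨hpr⟩
  let cs : CoxeterSystem M M.Group := M.toCoxeterSystem
  have hW : Finite M.Group := Cfsg.Agent.Nodes.RGDFold.finite_W (hp := hp) cs h FD
  have R := Cfsg.Agent.Nodes.RGDFold.rgd cs h FD FG p
  have hGG := Cfsg.Agent.KFacts.RgdRigid.GG_eq_top (cs := cs) (h := h) (T := (D.diagonalSubgroup K ⊓ G).subgroupOf G)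
    (X := fun z => (Cfsg.Agent.Nodes.RGDFold.R D hp K J σ z).subgroupOf G) (Cfsg.Agent.Nodes.RGDFold.G1_eq_top cs h FD FG p)
  have hp2 : p ≠ 2 := by
    rintro rfl
    exact hK (CharTwo.two_eq_zero)
  have hTc : ∀ a ∈ (D.diagonalSubgroup K ⊓ G).subgroupOf G, ∀ b ∈ (D.diagonalSubgroup K ⊓ G).subgroupOf G,
      a * b = b * a := fun a ha b hb =>
    congrArg Subtype.val (ModelTw.comm_TG (hp := hp) (⟨a, ha⟩ : ↥(ModelTw.TG D G)) ⟨b, hb⟩)
  have hGD : G ≤ D.group K := H788.NB.G_le_group FG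
  let cs' : CoxeterSystem M' M'.Group := M'.toCoxeterSystem
  have hW' : Finite M'.Group := Cfsg.Agent.Nodes.RGDChev.finite_W hp cs'
  -- the element
  set e : ↥G := (ω.map fun i => (⟨nI hp K (J i), FG.nG i⟩ : ↥G)).prod with hedef
  have hcoe : Subgroup.inclusion hGD e =
      (((ω.flatMap J).map fun i => (⟨nn hp K i, nn_mem_group hp i⟩ : ↥(D.group K))).prod) := by
    rw [hedef]
    clear hedef hω
    induction ω with
    | nil => rfl
    | cons i ω ih =>
      rw [List.map_cons, List.prod_cons, map_mul, ih, List.flatMap_cons, List.map_append, List.prod_append]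
      congr 1
      apply Subtype.ext
      show nI hp K (J i) = _
      rw [← Subgroup.coe_subtype, map_list_prod, List.map_map]
      rfl
  have he := rp_word (K := K) hp cs' p (ω.flatMap J)
  rw [← hcoe] at he
  have hw := rep_neg_word hp cs' hω
  have hinv : ∀ t ∈ (D.diagonalSubgroup K ⊓ G).subgroupOf G, e * t * e⁻¹ = t⁻¹ := by
    intro t ht
    have ht' : Subgroup.inclusion hGD t ∈ TT D K := (Subgroup.mem_subgroupOf.1 ht).1
    have h1 := inv_TT hp cs' p hw he ht'
    have h2 : e * t * e⁻¹ * t ∈ Subgroup.center ↥G := Subgroup.mem_center_iff.2 fun g => by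
      have h3 := h1 (Subgroup.inclusion hGD g)
      rw [← map_inv, ← map_mul, ← map_mul, ← map_mul, ← map_mul, ← map_mul] at h3
      exact (Subgroup.inclusion_injective hGD h3).symm
    rw [hZ, Subgroup.mem_bot] at h2
    exact eq_inv_of_mul_eq_one_left h2
  refine noCent_of_inv _ hTc (k := e) (zF_mem FG N hf) (zF_sq FG N hf) hinv ?_ ?_
  · rw [Subgroup.mem_subgroupOf]
    refine ⟨?_, (e * e).2⟩
    have h1 := he.mul he
    have h2 : cs'.wordProd (ω.flatMap J) * cs'.wordProd (ω.flatMap J) = 1 := by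
      apply rep_injective cs' hp.isCartan
      apply LinearMap.ext
      intro x
      rw [rep_mul_apply, hw, hw, neg_neg, map_one, Module.End.one_apply]
    rw [h2] at h1
    exact h1.mem_of_one
  · intro g hg ho
    exact H631.mem_T_of_commute R hGG (invols FG N hf FD C p hp2 (by rw [map_neg, map_one])) hg ho (pow_orderOf_eq_one g)

end Fold

end Cfsg.Agent.H661.SC
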