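import Cfsg.Agent.H661.SC.CusEx
import Cfsg.Agent.H794.ImcSU

/-!
# `IMC r (PSU_4(q))`, `IMC r (PSU_5(q))`, `r` not the characteristic (S4526, helper661)
-/

set_option autoImplicit false

open Cfsg
open scoped ComplexConjugate

namespace Cfsg.Agent.H661.SC

open Cfsg.Agent.H625.SylConst Cfsg.Agent.H139.Cusp Cfsg.Agent.H53.HC Cfsg.Agent.H477.HC Module
  Cfsg.Agent.Characters Cfsg.Agent.H113.PSU.Levi
open Cfsg.Agent.H113.PSU.Descent (eSU toGU toGU_injective index_NN eSU_val)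
open Cfsg.Agent.H794.Imc (psuEquiv center_scal card_psu_dvd pow_dvd_factor cast_ne_zero_of prime_dvd_of uu_even uu_odd)

universe u v w

theorem exists_cusU_twoF {K : Type u} [Field K] [Finite K] {q : ℕ} (hq : Nat.card K = q ^ 2) {r : ℕ}
    [hr : Fact r.Prime] (hrK : (r : K) ≠ 0) (h2q : r = 2 → ¬ 2 ∣ q) (h : r ∣ q ^ 2 - 1 ∨ ¬ r ∣ (q ^ 2) ^ 2 - 1) :
    ∃ c : GL (Fin 2) K → ℂ, Cus K 2 (CForm.powHom hq) (fun z => z ^ (q + 1) = 1) c ∧ FixAll r c := by
  have hq2 : 2 ≤ q := CForm.two_le_of_card hq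
  obtain ⟨L, _, _, _, hL⟩ := exists_L K 2 two_pos
  obtain ⟨θ, hθ⟩ := exists_theta L
  have hQ : 4 ≤ q ^ 2 := by nlinarith
  have ha : Nat.card K ^ 1 - 1 ≠ 0 := by rw [hq, pow_one]; omega
  have hQ2 : (q ^ 2) ^ 2 - 1 = (q ^ 2 - 1) * (q ^ 2 + 1) := by
    obtain ⟨x, hx⟩ : ∃ x, q ^ 2 = x + 1 := ⟨q ^ 2 - 1, by omega⟩
    rw [hx, Nat.add_sub_cancel]
    have : (x + 1) ^ 2 = x * (x + 1 + 1) + 1 := by ring
    omega
  have hpos : 0 < q ^ 2 - 1 := by omega
  have key := cusU_psi hq hθ two_pos hL (Nat.card K ^ 1 - 1) ha (by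
    intro i hi hi2 h
    obtain rfl : i = 1 := by omega
    rw [hq, pow_one, hQ2] at h
    have h1 := Nat.dvd_of_mul_dvd_mul_left hpos h
    have := Nat.le_of_dvd hpos h1
    omega) (by
    intro i hi h
    rw [hq, pow_one, ← Nat.mul_add, hQ2] at h
    have h1 := Nat.dvd_of_mul_dvd_mul_left hpos h
    have h4 : i = 0 ∨ i = 1 := by omega
    rcases h4 with rfl | rfl
    · rw [pow_zero] at h1
      have := Nat.le_of_dvd (by omega) h1
      nlinarith
    · rw [pow_one] at h1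
      have h5 : q ^ 2 + 1 ∣ (q ^ 2 + q) - (q ^ 2 + 1) := Nat.dvd_sub h1 dvd_rfl
      have h6 : (q ^ 2 + q) - (q ^ 2 + 1) = q - 1 := by omega
      rw [h6] at h5
      have := Nat.le_of_dvd (by omega) h5
      have h7 : q ≤ q ^ 2 := Nat.le_self_pow two_ne_zero q
      omega)
  refine ⟨_, ⟨key.irr, key.cusp, key.dual, fun z hz => key.scal z ?_, key.deg⟩, ?_⟩
  · have e : Nat.card K ^ 1 - 1 = (q + 1) * (q - 1) := by
      rw [hq, pow_one, ← Nat.sq_sub_sq, one_pow]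
    rw [e, pow_mul, hz, one_pow]
  · rcases h with h | h
    · have hn : Module.finrank K L = 2 * 1 := hL
      refine fixAll_even (n' := 1) hθ hn hrK (by rwa [hq, pow_one]) (fun hr2 => ?_) ha
      rw [hq, pow_one]
      have h3 := h2q hr2
      have h4 : q % 2 = 1 := by omega
      obtain ⟨t, ht⟩ : ∃ t, q = 2 * t + 1 := ⟨q / 2, by omega⟩
      rw [ht]
      have : (2 * t + 1) ^ 2 - 1 = 4 * (t * t + t) := by
        have : (2 * t + 1) ^ 2 = 4 * (t * t + t) + 1 := by ring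
        omega
      rw [this]
      exact dvd_mul_right _ _
    · exact fixAll_psi_coprime _ hL hrK (by rwa [hq])

section psu

variable {F : Type u} [Field F] [Fintype F] {q : ℕ}

/-- the character of `GU` -/
theorem gu_char_fix (hq : Nat.card F = q ^ 2) {k n' : ℕ} {c : GL (Fin k) F → ℂ}
    (hc : Cus F k (CForm.powHom hq) (fun z => z ^ (q + 1) = 1) c) {r : ℕ} [Fact r.Prime] (hf : FixAll r c) :
    ∃ χ : GU (k + (k + n')) F q → ℂ, IsIrrCharacter _ χ ∧
      χ 1 = (dg (CForm.hermF F hq (k + (k + n'))) k : ℂ) ∧ FixAll r χ ∧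
      ∀ (z : GU (k + (k + n')) F q) (c : F), c * c ^ q = 1 →
      (∀ v, ((z : GL (Fin (k + (k + n'))) F) : Matrix (Fin (k + (k + n'))) (Fin (k + (k + n'))) F).mulVec v = c • v) →
        χ z = χ 1 := by
  classical
  obtain ⟨p, hp⟩ := CharP.exists F
  have hpr : p.Prime := (CharP.char_is_prime_or_zero F p).resolve_right (CharP.char_ne_zero_of_finite F p)
  have : Fact p.Prime := ⟨hpr⟩
  obtain ⟨⟨W₀, hW₀⟩, -⟩ := CForm.hermF_frame (K := F) (p := p) hq k n'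
  obtain ⟨χ, hχ, hχ1, hχz, hχf⟩ := exists_char_fix (CForm.hermF F hq (k + (k + n'))) hW₀
    (Z := fun z => z ^ (q + 1) = 1) (c := c) hc hf
  refine ⟨χ ∘ (isoGU hq (k + (k + n'))).toMonoidHom,
    Core.isIrr_comp (isoGU hq (k + (k + n'))).toMonoidHom (isoGU hq (k + (k + n'))).surjective hχ, ?_,
    hχf.comp _, ?_⟩
  · change χ (isoGU hq (k + (k + n')) 1) = _
    rw [map_one, hχ1]
  · intro z c hc hz
    change χ (isoGU hq (k + (k + n')) z) = χ (isoGU hq (k + (k + n')) 1)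
    rw [map_one]
    have hc0 : c ≠ 0 := by rintro rfl; rw [zero_mul] at hc; exact zero_ne_one hc
    refine hχz _ (Units.mk0 c hc0) ?_ fun v => ?_
    · apply Units.ext
      rw [Units.val_pow_eq_pow_val, Units.val_mk0, Units.val_one, pow_succ', hc]
    · rw [isoGU_apply, hz v, Units.val_mk0]

theorem imc_psu_fix {n : ℕ} (hF : Fintype.card F = q ^ 2) (hn : 3 ≤ n) {χ : GU n F q → ℂ} (hχ : IsIrrCharacter _ χ)
    {d a : ℕ} (hd : χ 1 = d) {r : ℕ} [hr : Fact r.Prime] (hf : FixAll r χ)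
    (hz : ∀ (z : GU n F q) (c : F), c * c ^ q = 1 →
      (∀ v, ((z : GL (Fin n) F) : Matrix (Fin n) (Fin n) F).mulVec v = c • v) → χ z = χ 1)
    (h1 : r ^ a ∣ d) (h2 : ¬ r ^ a ∣ q + 1) : IMC r (PSU n F q) := by
  refine IMC.of_equiv (psuEquiv n F q) ?_
  rw [← index_NN (n := n) hF (by omega)] at h2
  exact imc_down (Cfsg.Agent.H113.PSU.Descent.NN n F q) hχ hf hd (center_scal hF hn hz) h1 h2

/-- `r` divides `q ^ 2 + 1` -/
theorem imc_psu_four_order {n : ℕ} (hF : Fintype.card F = q ^ 2) (hn4 : 4 ≤ n) (hn5 : n ≤ 5) {r : ℕ} [hr : Fact r.Prime]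
    (hrq : ¬ r ∣ q) (h2 : ¬ r ∣ q ^ 2 - 1) (h4 : r ∣ q ^ 4 - 1) (hd : r ∣ Nat.card (PSU n F q)) : IMC r (PSU n F q) := by
  classical
  have hq2 := LieClassical.HermBasic.two_le hF
  have hq1 : ¬ r ∣ q + 1 := fun h => h2 (h.trans ⟨q - 1, by rw [← one_pow 2, Nat.sq_sub_sq, one_pow]⟩)
  have hN0 := card_psu_dvd hF hr.out hrq (Nat.ordProj_dvd (Nat.card (PSU n F q)) r)
  have e1 : uu q 1 = q + 1 := by rw [uu_odd odd_one, pow_one]
  have e2 : uu q 2 = q ^ 2 - 1 := uu_even (by decide)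
  have e3 : uu q 3 = q ^ 3 + 1 := uu_odd (by decide)
  have e4 : uu q 4 = q ^ 4 - 1 := uu_even (by decide)
  have e5 : uu q 5 = q ^ 5 + 1 := uu_odd (by decide)
  -- `r` does not divide `q ^ 3 + 1` and `q ^ 5 + 1`
  have h8 : r ∣ q ^ 2 + 1 := by
    have h9 : q ^ 4 - 1 = (q ^ 2 - 1) * (q ^ 2 + 1) := by
      obtain ⟨x, hx⟩ : ∃ x, q ^ 2 = x + 1 := ⟨q ^ 2 - 1, by
        have : 1 ≤ q ^ 2 := Nat.one_le_pow _ _ (by omega)
        omega⟩
      have h10 : q ^ 4 = (q ^ 2) ^ 2 := by ring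
      rw [h10, hx, Nat.add_sub_cancel]
      have : (x + 1) ^ 2 = x * (x + 1 + 1) + 1 := by ring
      omega
    rw [h9] at h4
    exact (hr.out.dvd_mul.1 h4).resolve_left h2
  have h3 : ¬ r ∣ q ^ 3 + 1 := by
    intro h
    have h5 : r ∣ (q ^ 3 + q) - (q ^ 3 + 1) := Nat.dvd_sub (by
      have : q ^ 3 + q = q * (q ^ 2 + 1) := by ring
      rw [this]
      exact h8.mul_left q) h
    have h6 : (q ^ 3 + q) - (q ^ 3 + 1) = q - 1 := by omega
    rw [h6] at h5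
    exact h2 (h5.trans ⟨q + 1, by rw [← one_pow 2, Nat.sq_sub_sq, one_pow, mul_comm]⟩)
  have h5 : ¬ r ∣ q ^ 5 + 1 := by
    intro h
    have h6 : q ^ 5 + 1 = (q ^ 4 - 1) * q + (q + 1) := by
      obtain ⟨x, hx⟩ : ∃ x, q ^ 4 = x + 1 := ⟨q ^ 4 - 1, by
        have : 1 ≤ q ^ 4 := Nat.one_le_pow _ _ (by omega)
        omega⟩
      have h10 : q ^ 5 = q ^ 4 * q := by ring
      rw [h10, hx, Nat.add_sub_cancel]
      ring
    rw [h6] at h
    exact hq1 ((Nat.dvd_add_right (h4.mul_right q)).1 h)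
  have hN : r ^ (Nat.card (PSU n F q)).factorization r ∣ uu q 4 := by
    have h6 := pow_dvd_factor hr.out (Finset.range n) (fun i => uu q (i + 1)) (a := 3)
      (Finset.mem_range.2 (by omega)) (fun i hi hik => by
        rw [Finset.mem_range] at hi
        have h7 : i = 0 ∨ i = 1 ∨ i = 2 ∨ i = 4 := by omega
        rcases h7 with rfl | rfl | rfl | rfl
        · change ¬ r ∣ uu q 1
          rwa [e1]
        · change ¬ r ∣ uu q 2
          rwa [e2]
        · change ¬ r ∣ uu q 3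
          rwa [e3]
        · change ¬ r ∣ uu q 5
          rwa [e5]) hN0
    exact h6
  have hex : ∃ φ : IrrCharacter (PSU n F q),
      r ^ (Nat.card (PSU n F q)).factorization r ∣ (q ^ 2 - 1) * (q + 1) * charDegree (φ : PSU n F q → ℂ) := by
    have h6 : n = 4 ∨ n = 5 := by omega
    rcases h6 with rfl | rfl
    · obtain ⟨φ, hφ⟩ := Cfsg.Agent.H113.PSU.Facts.exF (F := F) hF (le_refl 4)
      refine ⟨φ, ?_⟩
      rw [hφ]
      exact Dvd.dvd.mul_right (Dvd.dvd.mul_left hN _) _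
    · obtain ⟨φ, hφ⟩ := Cfsg.Agent.H113.PSU.Facts.exG (F := F) hF (show 4 ≤ 5 by norm_num)
      refine ⟨φ, ?_⟩
      rw [hφ]
      exact Dvd.dvd.mul_right (Dvd.dvd.mul_left hN _) _
  obtain ⟨φ, hφ⟩ := hex
  have hco : Nat.Coprime (r ^ (Nat.card (PSU n F q)).factorization r) ((q ^ 2 - 1) * (q + 1)) := by
    refine Nat.Coprime.pow_left _ ((Nat.Prime.coprime_iff_not_dvd hr.out).2 fun h => ?_)
    rcases hr.out.dvd_mul.1 h with h | h
    · exact h2 h
    · exact hq1 h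
  have h7 := hco.dvd_of_dvd_mul_left hφ
  exact IMC.of_defect_zero hd φ h7

/-- **`PSU_4(q)`, `PSU_5(q)`, `r ≠ p`** -/
theorem imc_psu_five {n : ℕ} (hF : Fintype.card F = q ^ 2) (hn4 : 4 ≤ n) (hn5 : n ≤ 5) {r : ℕ} [hr : Fact r.Prime]
    (hrq : ¬ r ∣ q) (hd : r ∣ Nat.card (PSU n F q)) : IMC r (PSU n F q) := by
  classical
  by_cases h24 : ¬ r ∣ q ^ 2 - 1 ∧ r ∣ q ^ 4 - 1
  · exact imc_psu_four_order hF hn4 hn5 hrq h24.1 h24.2 hd
  obtain ⟨p, hpr', hp, hpq⟩ := Cfsg.Agent.H113.PSU.Facts.prime_pow hF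
  have hpf : Fact p.Prime := ⟨hpr'⟩
  have hrp : r ≠ p := fun h => hrq ((hpq r hr.out).2 h)
  have hq2 := LieClassical.HermBasic.two_le hF
  have hq : Nat.card F = q ^ 2 := by rw [Nat.card_eq_fintype_card, hF]
  have hrF : (r : F) ≠ 0 := cast_ne_zero_of hr.out hpr' hrp
  have h9 : q ^ 4 - 1 = (q ^ 2) ^ 2 - 1 := by
    have : q ^ 4 = (q ^ 2) ^ 2 := by ring
    rw [this]
  obtain ⟨c, hc, hf⟩ := exists_cusU_twoF hq hrF (fun h h' => hrq (h ▸ h')) (by
    rw [← h9]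
    by_cases h : r ∣ q ^ 2 - 1
    · exact Or.inl h
    · exact Or.inr fun h' => h24 ⟨h, h'⟩)
  obtain ⟨n', hn', hn'1⟩ : ∃ n', n = 2 + (2 + n') ∧ n' ≤ 1 := ⟨n - 4, by omega, by omega⟩
  subst hn'
  have e1 : uu q 1 = q + 1 := by rw [uu_odd odd_one, pow_one]
  have e2 : uu q 2 = q ^ 2 - 1 := uu_even (by decide)
  have e3 : uu q 3 = q ^ 3 + 1 := uu_odd (by decide)
  have e4 : uu q 4 = q ^ 4 - 1 := uu_even (by decide)
  have e5 : uu q 5 = q ^ 5 + 1 := uu_odd (by decide)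
  obtain ⟨χ, hχ, hχ1, hχf, hχz⟩ := gu_char_fix (n' := n') hq hc hf
  obtain ⟨s, hs⟩ := dvd_dg hq (p := p) (k := 2) (n' := n') (by omega)
  have hk0 : 0 < q ^ 4 - 1 := by
    have : 1 < q ^ 4 := Nat.one_lt_pow (by omega) (by omega)
    omega
  -- a divisor of the degree
  have hdiv : ∃ x : ℕ, uu q 3 * x ∣ p ^ s * dg (CForm.hermF F hq (2 + (2 + n'))) 2 ∧ q + 1 ∣ x ∧
      (n' = 1 → uu q 5 ∣ x) := by
    have h10 : n' = 0 ∨ n' = 1 := by omega
    rcases h10 with rfl | rfl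
    · refine ⟨(q + 1) * (q ^ 2 - 1), ?_, dvd_mul_right _ _, fun h => absurd h (by norm_num)⟩
      rw [show (2 * 2) = 4 by norm_num, Finset.prod_Ico_succ_top (by norm_num), Finset.prod_Ico_succ_top (by norm_num),
        Finset.prod_Ico_succ_top (by norm_num), Finset.prod_Ico_succ_top (by norm_num), Finset.Ico_self,
        Finset.prod_empty, one_mul] at hs
      norm_num only at hs
      rw [e1, e2, e4, ← mul_assoc (p ^ s)] at hs
      refine dvd_trans (Dvd.intro_left 1 ?_) (Nat.dvd_of_mul_dvd_mul_right hk0 hs)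
      ring
    · refine ⟨(q ^ 2 - 1) * uu q 5, ?_, Dvd.dvd.mul_right ⟨q - 1, by rw [← one_pow 2, Nat.sq_sub_sq, one_pow]⟩ _,
        fun _ => dvd_mul_left _ _⟩
      rw [show (2 * 2) = 4 by norm_num, Finset.prod_Ico_succ_top (by norm_num), Finset.prod_Ico_succ_top (by norm_num),
        Finset.prod_Ico_succ_top (by norm_num), Finset.prod_Ico_succ_top (by norm_num), Finset.Ico_self,
        Finset.prod_empty, one_mul] at hs
      norm_num only at hs
      have hs' : (uu q 2 * uu q 3 * uu q 5) * (q ^ 4 - 1) ∣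
          (p ^ s * dg (CForm.hermF F hq (2 + (2 + 1))) 2) * (q ^ 4 - 1) := by
        rw [← e4]
        rw [← e4, ← mul_assoc (p ^ s)] at hs
        refine dvd_trans (dvd_of_eq ?_) hs
        ring
      have hs2 := Nat.dvd_of_mul_dvd_mul_right hk0 hs'
      rw [e2] at hs2
      refine dvd_trans (dvd_of_eq ?_) hs2
      ring
  obtain ⟨x, hx1, hx2, hx3⟩ := hdiv
  by_cases hrq1 : r ∣ q + 1
  · -- `r ∣ q + 1`
    obtain ⟨v, m, hm, hvm⟩ := Nat.exists_eq_pow_mul_and_not_dvd (show q + 1 ≠ 0 by omega) r hr.out.ne_one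
    refine imc_psu_fix hF (by omega) hχ hχ1 hχf hχz (a := v + 1) ?_ ?_
    · refine prime_pow_dvd (e := s) hr.out hpr' hrp (dvd_trans ?_ hx1)
      rw [pow_succ, mul_comm]
      refine Nat.mul_dvd_mul ?_ (dvd_trans ?_ hx2)
      · rw [e3]
        refine hrq1.trans ?_
        have := Odd.nat_add_dvd_pow_add_pow q 1 (n := 3) (by decide)
        rwa [one_pow] at this
      · rw [hvm]; exact dvd_mul_right _ _
    · intro h
      rw [hvm, pow_succ] at h
      exact hm (Nat.dvd_of_mul_dvd_mul_left (pow_pos hr.out.pos v) h)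
  · refine imc_psu_fix hF (by omega) hχ hχ1 hχf hχz (a := 1) ?_ (by rwa [pow_one])
    rw [pow_one]
    by_cases hr2 : r ∣ q ^ 2 - 1
    · unfold dg
      refine Dvd.dvd.mul_left ?_ _
      rw [Finset.prod_Ico_succ_top (by norm_num), Finset.Ico_self, Finset.prod_empty, one_mul, pow_one, hq]
      exact hr2
    · have hr4 : ¬ r ∣ q ^ 4 - 1 := fun h => h24 ⟨hr2, h⟩
      have h1 := card_psu_dvd (N := 1) hF hr.out hrq (by rwa [pow_one])
      rw [pow_one] at h1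
      obtain ⟨i, hi, hi'⟩ := (Prime.dvd_finsetProd_iff hr.out.prime _).1 h1
      rw [Finset.mem_range] at hi
      have h7 : i = 0 ∨ i = 1 ∨ i = 2 ∨ i = 3 ∨ (i = 4 ∧ n' = 1) := by omega
      rcases h7 with rfl | rfl | rfl | rfl | ⟨rfl, h⟩
      · exact absurd (by rw [← e1]; exact hi') hrq1
      · exact absurd (by rw [← e2]; exact hi') hr2
      · exact prime_dvd_of hr.out hpr' hrp ((show r ∣ uu q 3 from hi').trans ((dvd_mul_right _ _).trans hx1))
      · exact absurd (by rw [← e4]; exact hi') hr4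
      · exact prime_dvd_of hr.out hpr' hrp ((show r ∣ uu q 5 from hi').trans ((hx3 h).trans ((dvd_mul_left _ _).trans hx1)))

end psu

end Cfsg.Agent.H661.SC
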