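import Cfsg.Agent.H661.SC.Base
import Cfsg.Agent.H428.NBL.Eng
import Cfsg.Agent.H505.Cop.Rgd

/-!
# `IMC p` from the long root elements (S4526, helper661)

`imc_root` : a root group datum in characteristic `r ≠ p`, `a` a long root, `p` prime to `|⟨X a, X (-a)⟩|`, `p` divides the
index of every maximal parabolic subgroup `P_{j ≠ i}`, `i` not orthogonal to the dominant conjugate of `a`.
-/

set_option autoImplicit false
set_option linter.unusedSectionVars false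

namespace Cfsg.Agent.H661.SC

open CoxeterSystem Cfsg.Agent.ChevalleyStructure.CoxeterGeom Cfsg.Agent.Tits.Roots Cfsg.Agent.Tits.Core
  Cfsg.Agent.Nodes.Reps Cfsg.Agent.Nodes.BNOf Cfsg.Agent.Nodes.Bruhat Cfsg.Agent.Nodes.Coroot
  Cfsg.Agent.Nodes.StabComb Cfsg.Agent.Nodes.LeviDec Cfsg.Agent.KFacts.RgdTI Cfsg.Agent.KFacts.RgdPar
open Cfsg.Agent.H625.SylConst Cfsg.Agent.H428.NBL

variable {I W Y : Type*} [Fintype I] [DecidableEq I] [Group W] [Group Y] {M : CoxeterMatrix I}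
  {cs : CoxeterSystem M W} {A : I → I → ℤ} {h : IsCartan M A} {r : ℕ} {T : Subgroup Y} {n : I → Y}
  {X : (I → ℤ) → Subgroup Y}

/-- a root is not orthogonal to all simple roots -/
theorem exists_cpr_ne [Finite W] {a : I → ℤ} (ha : IsRoot cs h a) : ∃ i, cpr cs h (sr i) a ≠ 0 := by
  by_contra hcon
  push Not at hcon
  have h1 : ell cs h ha a = 2 := cpr_self cs h ha
  have h2 : a = ∑ i, a i • sr i := by
    funext j
    rw [Finset.sum_apply]
    simp only [sr, Pi.smul_apply, smul_eq_mul]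
    rw [Finset.sum_eq_single j]
    · simp
    · intro b _ hb
      rw [Pi.single_eq_of_ne' hb, mul_zero]
    · intro hb
      exact absurd (Finset.mem_univ j) hb
  have h3 : ell cs h ha (∑ i, a i • sr i) = 0 := by
    rw [map_sum]
    refine Finset.sum_eq_zero fun i _ => ?_
    rw [map_zsmul, ell_apply, hcon i, smul_zero]
  rw [← h2, h1] at h3
  omega

theorem imc_root [Finite W] [Finite Y] (R : RGD cs h r T n X) {p : ℕ} [hp : Fact p.Prime] [hr : Fact r.Prime]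
    (hpr : p ≠ r) {a : I → ℤ} (L : LR R a) (hG : GG cs h T X = ⊤) (hJ : ¬ p ∣ Nat.card ↥(X a ⊔ X (-a)))
    (hidx : ∀ w, (∀ i, 0 ≤ cpr cs h (sr i) (rep cs h w a)) →
      ∃ i, cpr cs h (sr i) (rep cs h w a) ≠ 0 ∧ p ∣ (PJ cs h T X {j | j ≠ i}).index) : IMC p Y := by
  obtain ⟨w, hw⟩ := L.exists_dominant
  obtain ⟨m, hm⟩ := exists_rp cs R.nsys w
  have e1 : cj m (X a) = X (rep cs h w a) := R.conj_rp hm L.root
  have e2 : cj m (X (-a)) = X (-rep cs h w a) := by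
    rw [R.conj_rp hm L.root.neg, map_neg]
  have hJ' : ¬ p ∣ Nat.card ↥(X (rep cs h w a) ⊔ X (-rep cs h w a)) := by
    rw [← e1, ← e2, ← cj_sup, Nodes.CardSup.card_cj]
    exact hJ
  obtain ⟨i, hi, hd⟩ := hidx w hw
  have L' := L.act w
  set b := rep cs h w a with hb
  obtain ⟨⟨s, hs⟩, hs1⟩ := (Subgroup.ne_bot_iff_exists_ne_one).1 (X_ne_bot R L'.root)
  have hs1' : s ≠ 1 := fun h0 => hs1 (Subtype.ext h0)
  refine imc_of_quotients (s := s) (hd.trans (Subgroup.index_dvd_of_le ?_)) ?_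
  · intro g hg
    rw [Subgroup.mem_centralizer_singleton_iff] at hg
    have hgG : g ∈ GG cs h T X := by rw [hG]; exact Subgroup.mem_top g
    have h1 := L'.le_PS_of_comm hgG hs hs1' hg
    have h2 : PS T X (Ge cs h b) = PJ cs h T X {i | ell cs h L'.root (sr i) = 0} :=
      PS_half_of_dom (f := ell cs h L'.root) hw
    rw [h2] at h1
    refine Cfsg.Agent.H505.Cop.PJ_mono (fun j hj => ?_) h1
    rintro rfl
    exact hi hj
  · rintro g k hg hk ⟨j, hj⟩
    obtain ⟨x, rfl⟩ := isConj_iff.1 hg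
    obtain ⟨y, rfl⟩ := isConj_iff.1 hk
    have h1 : (s * (x⁻¹ * (y * s * y⁻¹) * x)⁻¹) ^ p ^ j = 1 := by
      have e : s * (x⁻¹ * (y * s * y⁻¹) * x)⁻¹ = x⁻¹ * (x * s * x⁻¹ * (y * s * y⁻¹)⁻¹) * (x⁻¹)⁻¹ := by group
      rw [e, conj_pow, ← hj, pow_orderOf_eq_one]
      group
    have h2 := uniq R hpr L' hG hJ' hs hs1' (k := x⁻¹ * (y * s * y⁻¹) * x)
      ⟨x⁻¹ * y, s, hs, hs1', by group⟩ h1
    calc x * s * x⁻¹ = x * (x⁻¹ * (y * s * y⁻¹) * x) * x⁻¹ := by rw [h2]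
      _ = y * s * y⁻¹ := by group

/-- all maximal parabolic subgroups -/
theorem imc_root_all [Finite W] [Finite Y] (R : RGD cs h r T n X) {p : ℕ} [hp : Fact p.Prime] [hr : Fact r.Prime]
    (hpr : p ≠ r) {a : I → ℤ} (L : LR R a) (hG : GG cs h T X = ⊤) (hJ : ¬ p ∣ Nat.card ↥(X a ⊔ X (-a)))
    (hidx : ∀ i, p ∣ (PJ cs h T X {j | j ≠ i}).index) : IMC p Y := by
  refine imc_root R hpr L hG hJ fun w _ => ?_
  obtain ⟨i, hi⟩ := exists_cpr_ne (L.root.act w)
  exact ⟨i, hi, hidx i⟩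

end Cfsg.Agent.H661.SC
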